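import Groth.Agent.AlgStSetoidLib.OpenCover
import Groth.Agent.AlgStSetoidLib.Etale
import Groth.Agent.AlgSpLib.OpenGlue
import Groth.Agent.LargestLib.Main

/-! An algebraic stack covered by open substacks which are schemes is a scheme. -/

set_option autoImplicit false
set_option linter.all false
set_option backward.isDefEq.respectTransparency false
set_option backward.isDefEq.respectTransparency.types false

noncomputable section

universe w u

open CategoryTheory CategoryTheory.Limits AlgebraicGeometry Opposite AlgSp FibCat FibLib AlgSpLib AlgStLib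

namespace SchCoverStLib

variable {S : Scheme.{u}} {𝒳 : AlgSt.Cat S}

lemma isEquivOver_fpSnd_of_equiv {𝒲 𝒯 : AlgSt.Cat S} {e : 𝒯 ⥤ᵇ 𝒳} (he : IsEquivOver e) (f : 𝒲 ⥤ᵇ 𝒳) :
    IsEquivOver (fpSnd e f) := by
  haveI := full_id 𝒳
  haveI := faithful_id 𝒳
  have hM : IsEquivOver (fpMap (a := e) (b := BasedFunctor.id 𝒲) (c := BasedFunctor.id 𝒳)
      (F := BasedFunctor.id 𝒳) (G := f) (F' := e) (G' := f) (Iso.refl _) (Iso.refl _)) :=
    isEquivOver_fpMap _ _ he (isEquivOver_id _)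
  have h₃ : IsEquivOver (FibCat.fpFst f (BasedFunctor.id 𝒳)) := by
    refine ⟨fpGraph f, ⟨?_⟩, ⟨Iso.refl _⟩⟩
    refine fpIsoExt _ _ (Iso.refl _) (fpGraphIso f) fun x => ?_
    change f.map (𝟙 _) ≫ x.obj.iso.hom = 𝟙 _ ≫ x.obj.iso.hom
    rw [f.toFunctor.map_id]
  exact isEquivOver_comp (isEquivOver_comp hM (isEquivOver_fpSwap (BasedFunctor.id 𝒳) f)) h₃

lemma repByAlgSp_of_isRepresentable {𝒲 : AlgSt.Cat S} (h : FibCat.IsRepresentable 𝒲) : AlgSt.RepByAlgSp 𝒲 := by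
  obtain ⟨U, F, hF⟩ := h
  obtain ⟨F', hF', -, -⟩ := exists_inverse hF
  exact ⟨⟨(yon S).obj U, IsAlgSpace.yon_obj U⟩, BasedFunctor.comp (AlgSt.toOverCat U) F',
    isEquivOver_comp (isEquivOver_toOverCat U) hF'⟩

theorem isRepresentable_of_cover (h𝒳 : AlgSt.IsAlgStack Scheme.fppfPrecoverage 𝒳) {ι : Type w}
    (Q : ι → 𝒳.obj → Prop) (hQ : ∀ i, AlgSt.IsOpenSubstack 𝒳 (Q i) Scheme.fppfPrecoverage)
    (hcov : ⋃ i, Set.range (AlgSt.Points.map (AlgSt.subIncl 𝒳 (Q i))) = Set.univ)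
    (hsch : ∀ i, FibCat.IsRepresentable (AlgSt.fullSub 𝒳 (Q i))) : FibCat.IsRepresentable 𝒳 := by
  haveI := h𝒳.isStack.1
  have hset := AlgStSetoidLib.isFibSetoid_of_openCover h𝒳 Q hQ hcov
    fun i => isFibSetoid_of_repByAlgSp (repByAlgSp_of_isRepresentable (hsch i))
  obtain ⟨⟨M, hM⟩, e, he⟩ := AlgStSetoidLib.repByAlgSp_of_isFibSetoid_et
    ⟨AlgStSetoidLib.isStack_et h𝒳.isStack, h𝒳.diag, h𝒳.atlas⟩ hset
  haveI : IsFibGrpd (AlgSt.ofSp M).p := Stk.isFibGrpd_ofPsh _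
  obtain ⟨U₀, p, hp, hps⟩ := hM.atlas
  have hi : ∀ z : U₀.left, ∃ i, ptMap e (Points.ofPt p z) ∈ Set.range (AlgSt.Points.map (AlgSt.subIncl 𝒳 (Q i))) :=
    fun z => Set.mem_iUnion.1 (by rw [hcov]; trivial)
  choose i hiz using hi
  let T : U₀.left → Set (AlgSt.Points 𝒳) := fun z => Set.range (AlgSt.Points.map (AlgSt.subIncl 𝒳 (Q (i z))))
  have hT : ∀ z, IsOpen (T z) := fun z => (bijOn_openSubstack h𝒳).1 (hQ (i z))
  let O : U₀.left → Set (Points M) := fun z => ptMap e ⁻¹' T z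
  have hO : ∀ z, IsOpen (O z) := fun z => (hT z).preimage (continuous_ptMap h𝒳.atlas hM e)
  have key : ∀ z, ∃ (W : Over S), Nonempty ((yon S).obj W ≅ openSub M (O z)) := by
    intro z
    obtain ⟨ε, hε, -⟩ := LargestLib.along_subIncl (T z) e
    have hQeq := openSubstack_eq h𝒳 (hQ (i z))
    obtain ⟨U, F, hF⟩ := hsch (i z)
    have hsnd : IsEquivOver (fpSnd e (AlgSt.subIncl 𝒳 (PtsIn (T z)))) := by
      exact isEquivOver_fpSnd_of_equiv he _
    let F' : AlgSt.fullSub 𝒳 (PtsIn (T z)) ⥤ᵇ overCat U := hQeq ▸ F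
    have hF' : IsEquivOver F' := by
      clear hsnd
      have : ∀ (Q' : 𝒳.obj → Prop) (h : Q (i z) = Q'), IsEquivOver (h ▸ F : AlgSt.fullSub 𝒳 Q' ⥤ᵇ overCat U) := by
        rintro Q' rfl; exact hF
      exact this _ hQeq
    obtain ⟨j, -⟩ := exists_iso_of_isEquivOver (E := BasedFunctor.comp (BasedFunctor.comp ε
        (BasedFunctor.comp (fpSnd e (AlgSt.subIncl 𝒳 (PtsIn (T z)))) F')) (AlgSt.ofOverCat U))
      (isEquivOver_comp (isEquivOver_comp hε (isEquivOver_comp hsnd hF')) (isEquivOver_ofOverCat U))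
    exact ⟨U, ⟨((fullyFaithfulSheafToPresheaf (AlgSp.J S) _).preimageIso (X := openSub M (O z)) (Y := (yon S).obj U) j).symm⟩⟩
  choose W j using key
  have hj := fun z => (j z).some
  let f : ∀ z, (yon S).obj (W z) ⟶ M := fun z => (j z).some.hom ≫ openSubι M (O z)
  have hf : ∀ z, RepWith @IsOpenImmersion (f z) := fun z =>
    repWith_comp (repWith_of_isIso _) (repWith_openSubι M (hO z))
  obtain ⟨W', ⟨k⟩⟩ := isRepSh_of_openCover f hf fun T' b t => by
    obtain ⟨z, hz⟩ := surjective_ofPt hps (Points.ofPt b t)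
    have hx : Points.ofPt b t ∈ Set.range (Points.map (f z)) := by
      rw [← hz]
      obtain ⟨y, hy⟩ := (range_openSubι M (W := O z)).superset (show Points.ofPt p z ∈ O z from hiz z)
      refine ⟨Points.map (j z).some.inv y, ?_⟩
      rw [← Points.map_comp, Iso.inv_hom_id_assoc]
      exact hy
    obtain ⟨y, hy⟩ := hx
    obtain ⟨w, -, hw⟩ := exists_point_isPullback ((hf z).rep.isPullback' b) y (Points.schemeHomeo T' t)
      (hy.trans (Points.ofPt_eq_map_ofScheme b t))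
    obtain ⟨r, rfl⟩ := (Points.schemeHomeo _).surjective w
    rw [Points.map_yon_map_apply] at hw
    exact ⟨z, r, (Points.schemeHomeo T').injective hw⟩
  obtain ⟨e', he', -, -⟩ := exists_inverse he
  exact ⟨W', BasedFunctor.comp e' (BasedFunctor.comp
    (Stk.ofPshMap ((sheafToPresheaf _ _).mapIso k.symm).hom) (AlgSt.toOverCat W')),
    isEquivOver_comp he' (isEquivOver_comp (isEquivOver_ofPshMap _) (isEquivOver_toOverCat W'))⟩

end SchCoverStLib
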